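import Mathlib.AlgebraicGeometry.Limits
import Mathlib.AlgebraicGeometry.Properties
import Mathlib.AlgebraicGeometry.Stalk
import Mathlib.Topology.Irreducible
import Mathlib.Topology.QuasiSeparated
import Mathlib.AlgebraicGeometry.Morphisms.QuasiSeparated
import Mathlib.AlgebraicGeometry.Morphisms.UnderlyingMap

/-!
# Neighbourhoods of generic points
-/

set_option autoImplicit false

universe u

open CategoryTheory CategoryTheory.Limits AlgebraicGeometry TopologicalSpace Opposite

namespace Groth.Agent.GenNhd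

variable {X : Scheme.{u}}

theorem eq_of_specializes {η ζ : X} (hη : closure ({η} : Set X) ∈ irreducibleComponents (X : Type u))
    (h : ζ ⤳ η) : ζ = η := by
  have h1 : closure ({η} : Set X) ⊆ closure {ζ} := specializes_iff_closure_subset.1 h
  have h2 : closure ({ζ} : Set X) ⊆ closure {η} := hη.2 isIrreducible_singleton.closure h1
  exact ((specializes_iff_closure_subset.2 h2).antisymm h).eq.symm

theorem isNilpotent_germ {η : X} (hη : closure ({η} : Set X) ∈ irreducibleComponents (X : Type u))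
    {U : X.Opens} (hU : η ∈ U) (g : Γ(X, U)) (hg : η ∉ X.basicOpen g) :
    IsNilpotent (X.presheaf.germ U η hU g) := by
  rw [nilpotent_iff_mem_prime]
  intro P hP
  let P' : Spec (X.presheaf.stalk η) := ⟨P, hP⟩
  have h1 : X.fromSpecStalk η P' ⤳ η := by
    have := Set.mem_range_self (f := X.fromSpecStalk η) P'
    rwa [Scheme.range_fromSpecStalk] at this
  have h2 : X.fromSpecStalk η P' = X.fromSpecStalk η (IsLocalRing.closedPoint (X.presheaf.stalk η)) := by
    rw [eq_of_specializes hη h1, Scheme.fromSpecStalk_closedPoint]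
  have h3 : P' = IsLocalRing.closedPoint (X.presheaf.stalk η) := (X.fromSpecStalk η).isEmbedding.injective h2
  have h4 : P = IsLocalRing.maximalIdeal (X.presheaf.stalk η) := congrArg PrimeSpectrum.asIdeal h3
  rw [h4, IsLocalRing.mem_maximalIdeal]
  exact fun hu => hg ((X.mem_basicOpen g η hU).2 hu)

theorem exists_disjoint_basicOpen {η : X} (hη : closure ({η} : Set X) ∈ irreducibleComponents (X : Type u))
    {U : X.Opens} (hU : η ∈ U) (g : Γ(X, U)) (hg : η ∉ X.basicOpen g) :
    ∃ W : X.Opens, η ∈ W ∧ Disjoint W (X.basicOpen g) := by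
  obtain ⟨n, hn⟩ := isNilpotent_germ hη hU g hg
  rw [← map_pow, ← map_zero (X.presheaf.germ U η hU).hom] at hn
  obtain ⟨W, hW, i, j, hij⟩ := TopCat.Presheaf.germ_eq X.presheaf η hU hU (g ^ n) 0 hn
  refine ⟨W, hW, ?_⟩
  have h0 : X.basicOpen (X.presheaf.map i.op g) = ⊥ := by
    have hnil : IsNilpotent (X.presheaf.map i.op g) := ⟨n, by
      rw [← map_pow]; exact hij.trans (map_zero _)⟩
    rw [eq_bot_iff]
    intro x hx
    exact absurd ((X.mem_basicOpen _ x (X.basicOpen_le _ hx)).1 hx)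
      (hnil.map (X.presheaf.germ W x (X.basicOpen_le _ hx)).hom).not_isUnit
  rw [Scheme.basicOpen_res] at h0
  exact disjoint_iff.2 h0

theorem mem_finset_inf {ι : Type*} (t : Finset ι) {W : ι → X.Opens} {η : X} (h : ∀ i, η ∈ W i) : η ∈ t.inf W := by
  classical
  induction t using Finset.induction with
  | empty => rw [Finset.inf_empty]; trivial
  | insert a s _ ih => rw [Finset.inf_insert]; exact ⟨h a, ih⟩

theorem exists_affine_disjoint [QuasiSeparatedSpace X] {η : X}
    (hη : closure ({η} : Set X) ∈ irreducibleComponents (X : Type u)) {V : X.Opens} (hV : IsCompact (V : Set X))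
    (hηV : η ∉ V) (O : X.Opens) (hO : η ∈ O) :
    ∃ W : X.Opens, IsAffineOpen W ∧ η ∈ W ∧ W ≤ O ∧ Disjoint W V := by
  classical
  obtain ⟨U, hU, hηU, hUO⟩ := exists_isAffineOpen_mem_and_subset hO
  have hc : IsCompact (((V ⊓ U : X.Opens)) : Set X) :=
    QuasiSeparatedSpace.inter_isCompact _ _ V.2 hV U.2 hU.isCompact
  have hcov : ∀ x : ((V ⊓ U : X.Opens) : Set X), ∃ g : Γ(X, U), X.basicOpen g ≤ V ⊓ U ∧ x.1 ∈ X.basicOpen g :=
    fun x => hU.exists_basicOpen_le ⟨x.1, x.2⟩ x.2.2
  choose g hgle hxg using hcov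
  obtain ⟨t, ht⟩ := hc.elim_finite_subcover (fun x => (X.basicOpen (g x) : Set X)) (fun x => (X.basicOpen _).2)
    fun x hx => Set.mem_iUnion.2 ⟨⟨x, hx⟩, hxg ⟨x, hx⟩⟩
  choose W hηW hW using fun x => exists_disjoint_basicOpen hη hηU (g x) fun h => hηV (hgle x h).1
  have hmem : η ∈ U ⊓ t.inf W := ⟨hηU, mem_finset_inf t hηW⟩
  obtain ⟨W', hW', hηW', hle⟩ := exists_isAffineOpen_mem_and_subset hmem
  refine ⟨W', hW', hηW', fun x hx => hUO (hle hx).1, disjoint_iff.2 (eq_bot_iff.2 ?_)⟩
  rintro x ⟨hxW, hxV⟩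
  obtain ⟨a, ha, hxa⟩ := Set.mem_iUnion₂.1 (ht ⟨hxV, (hle hxW).1⟩)
  exact (disjoint_iff.1 (hW a)).le ⟨(Finset.inf_le ha : t.inf W ≤ W a) (hle hxW).2, hxa⟩

theorem exists_affine_avoiding {η ζ : X} (hζ : closure ({ζ} : Set X) ∈ irreducibleComponents (X : Type u))
    (hne : η ≠ ζ) : ∃ V : X.Opens, IsAffineOpen V ∧ ζ ∈ V ∧ η ∉ V := by
  have : ¬ η ⤳ ζ := fun h => hne (eq_of_specializes hζ h)
  rw [specializes_iff_forall_open] at this
  push Not at this
  obtain ⟨O, hO, hζO, hηO⟩ := this
  obtain ⟨V, hV, hζV, hle⟩ := exists_isAffineOpen_mem_and_subset (U := ⟨O, hO⟩) hζO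
  exact ⟨V, hV, hζV, fun h => hηO (hle h)⟩

/-- Pairwise disjoint affine neighbourhoods of generic points, away from a given affine open. -/
theorem exists_pairwise_disjoint [QuasiSeparatedSpace X] : ∀ {n : ℕ} (η : Fin n → X),
    (∀ i, closure ({η i} : Set X) ∈ irreducibleComponents (X : Type u)) → Function.Injective η →
    ∀ V : X.Opens, IsAffineOpen V → (∀ i, η i ∉ V) →
    ∃ U : Fin n → X.Opens, (∀ i, IsAffineOpen (U i) ∧ η i ∈ U i ∧ Disjoint (U i) V) ∧
      ∀ i j, i ≠ j → Disjoint (U i) (U j) := by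
  intro n
  induction n with
  | zero => exact fun η _ _ V _ _ => ⟨Fin.elim0, fun i => i.elim0, fun i => i.elim0⟩
  | succ n ih =>
    intro η hη hinj V hV hnot
    have hav : ∀ i : Fin n, ∃ O : X.Opens, IsAffineOpen O ∧ η 0 ∈ O ∧ η i.succ ∉ O := fun i =>
      exists_affine_avoiding (hη 0) fun h => Fin.succ_ne_zero i (hinj h)
    choose O hOa hO0 hOi using hav
    have h0 : η 0 ∈ Finset.univ.inf O := mem_finset_inf _ hO0
    obtain ⟨U₀, hU₀, h0U, hle, hdV⟩ := exists_affine_disjoint (hη 0) hV.isCompact (hnot 0) _ h0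
    have hV' : IsAffineOpen (V ⊔ U₀) := hV.sup_of_disjoint hU₀ hdV.symm
    obtain ⟨U, hU, hUd⟩ := ih (fun i => η i.succ) (fun i => hη _) (hinj.comp (Fin.succ_injective n)) (V ⊔ U₀) hV'
      fun i hi => hi.elim (hnot i.succ) fun h => hOi i ((Finset.inf_le (Finset.mem_univ i) : Finset.univ.inf O ≤ O i) (hle h))
    refine ⟨Fin.cons U₀ U, fun i => ?_, fun i j hij => ?_⟩
    · induction i using Fin.cases with
      | zero => rw [Fin.cons_zero]; exact ⟨hU₀, h0U, hdV⟩
      | succ i => rw [Fin.cons_succ]; exact ⟨(hU i).1, (hU i).2.1, (hU i).2.2.mono_right le_sup_left⟩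
    · induction i using Fin.cases with
      | zero =>
        induction j using Fin.cases with
        | zero => exact absurd rfl hij
        | succ j => rw [Fin.cons_zero, Fin.cons_succ]; exact ((hU j).2.2.mono_right le_sup_right).symm
      | succ i =>
        induction j using Fin.cases with
        | zero => rw [Fin.cons_zero, Fin.cons_succ]; exact (hU i).2.2.mono_right le_sup_right
        | succ j =>
          rw [Fin.cons_succ, Fin.cons_succ]
          exact hUd i j fun h => hij (congrArg Fin.succ h)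

end Groth.Agent.GenNhd
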